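import Cfsg.Agent.H71.PfC

/-! Goldschmidt's signalizer functor for two four-groups, with the commutator condition at a mixed
involution only required in a subgroup containing all odd order subgroups. -/

set_option autoImplicit false

namespace Cfsg.Agent.PFM

open Cfsg Cfsg.Agent.H49 Cfsg.Agent.GOLD Cfsg.Agent.H82G Cfsg.Agent.H71 Subgroup

universe u

variable {G : Type u} [Group G] [Finite G]

theorem ea_sq {A : Subgroup G} (h : EA A) {a : G} (ha : a ∈ A) : a * a = 1 := H82G.ea_sq h ha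

theorem ea_cent {A : Subgroup G} (h : EA A) : A ≤ 𝒞(A) := H82G.ea_cent h

/-- Two four-groups whose local normal closures commute modulo the cores. -/
structure CS2 (A B : Subgroup G) : Prop where
  ea1 : EA A
  ea2 : EA B
  c1 : Nat.card A = 4
  c2 : Nat.card B = 4
  cent : B ≤ 𝒞(A)
  disj : A ⊓ B = ⊥
  cA : ∀ a ∈ A, a ≠ 1 → ⁅Kof A 𝒞[a], B⁆ ≤ O 𝒞[a]
  cB : ∀ b ∈ B, b ≠ 1 → ⁅Kof B 𝒞[b], A⁆ ≤ O 𝒞[b]
  comm : ∀ e ∈ A ⊔ B, e ≠ 1 → ∃ D : Subgroup G, A ⊔ B ≤ D ∧ (∀ X, X ≤ 𝒞[e] → Od X → X ≤ D) ∧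
    O D ≤ O 𝒞[e] ∧ ⁅Kof A D, Kof B D⁆ ≤ O D

namespace CS2

variable {A B : Subgroup G} (h : CS2 A B)
include h

theorem symm : CS2 B A :=
  ⟨h.ea2, h.ea1, h.c2, h.c1, cent_symm h.cent, inf_comm A B ▸ h.disj, h.cB, h.cA, fun e he he1 => by
    obtain ⟨D, h1, h2, h3, h4⟩ := h.comm e (sup_comm A B ▸ he) he1
    exact ⟨D, sup_comm A B ▸ h1, h2, h3, commutator_comm (Kof A D) (Kof B D) ▸ h4⟩⟩

theorem ea : EA (A ⊔ B) := ea_mk fun x hx => by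
  obtain ⟨a, ha, b, hb, rfl⟩ := (mem_sup_of_norm_left (norm_of_cent h.cent)).1 hx
  have e : a * b = b * a := h.cent hb a ha
  rw [show a * b * (a * b) = a * (b * a) * b by group, ← e,
    show a * (a * b) * b = (a * a) * (b * b) by group, ea_sq h.ea1 ha, ea_sq h.ea2 hb, mul_one]

theorem le1 {e : G} (he : e ∈ A ⊔ B) : A ⊔ B ≤ 𝒞[e] := ea_cent1 h.ea he

theorem a1 {e : G} (he : e ∈ A ⊔ B) : A ≤ 𝒞[e] := le_sup_left.trans (h.le1 he)

theorem b1 {e : G} (he : e ∈ A ⊔ B) : B ≤ 𝒞[e] := le_sup_right.trans (h.le1 he)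

theorem leA : A ⊔ B ≤ 𝒞(A) := sup_le (ea_cent h.ea1) h.cent

theorem fix {e : G} (he : e ∈ A ⊔ B) : ⁅O 𝒞[e], A⁆ ⊓ 𝒞(A) ≤ O 𝒞(A) := by
  refine H19.four_fixed' h.ea1 h.c1 (od_O _) ((h.a1 he).trans (le_norm_O _)) fun a ha ha1 => ?_
  obtain ⟨e₁, h1, e₂, h2, rfl⟩ := (mem_sup_of_norm_left (norm_of_cent h.cent)).1 he
  have hCa : 𝒞(A) ≤ 𝒞[a] := cent_le_cent1 ha
  have hD : 𝒞(A) ≤ 𝒩(Kof A 𝒞[a] ⊓ 𝒞(A)) :=
    norm_inf (hCa.trans (le_norm_Kof _ _)) (norm_of_le le_rfl)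
  have hV : zpowers e₂ ≤ 𝒞(A) := (zpowers_le.2 h2).trans h.cent
  have hC : 𝒞(A) ⊓ 𝒞(zpowers e₂) ≤ 𝒞[e₁ * e₂] := fun x hx => by
    have e1 : e₁ * x = x * e₁ := hx.1 e₁ h1
    have e2 : e₂ * x = x * e₂ := hx.2 e₂ (mem_zpowers _)
    rw [mem_cent1, ← mul_assoc, ← e1, mul_assoc, ← e2, mul_assoc]
  refine le_trans ?_ (le_O_of_cover (Y := O 𝒞[e₁ * e₂] ⊓ (Kof A 𝒞[a] ⊓ 𝒞(A))) inf_le_right hD
    (le_cent_sup_O' inf_le_right hV ((ea_pg h.ea2).to_le (zpowers_le.2 h2)) ?_)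
    (le_inf inf_le_left (norm_inf (hC.trans (le_norm_O _)) (inf_le_left.trans hD))) inf_le_right
    (od_le (od_O _) inf_le_left))
  · refine le_inf (inf_le_left.trans ((commutator_mono inf_le_left le_rfl).trans
      (commutator_le_left_of_norm ((h.a1 he).trans (le_norm_O _))))) (inf_le_inf_right _ ?_)
    exact commutator_le_Kof inf_le_right
  · refine le_trans (le_inf ?_ ?_) (O_inf_le_O hCa)
    · exact (commutator_mono inf_le_left (zpowers_le.2 h2)).trans (h.cA a ha ha1)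
    · exact (commutator_mono inf_le_right hV).trans der_le

theorem Th_fix {e : G} (he : e ∈ A ⊔ B) : Th A e ⊓ 𝒞(A) ≤ O 𝒞(A) := by
  rw [Th, modular_right (Or.inr (inf_le_left.trans (le_norm_commutator_left _ _)))
    (inf_le_right.trans (O_le _))]
  exact sup_le (h.fix he) inf_le_right

theorem norm_Th {e : G} (he : e ∈ A ⊔ B) : A ⊔ B ≤ 𝒩(Th A e) :=
  norm_sup (norm_commutator ((h.le1 he).trans (le_norm_O _)) (norm_of_cent h.leA))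
    (norm_inf ((h.le1 he).trans (le_norm_O _)) (h.leA.trans (le_norm_O _)))

theorem key1 {D X : Subgroup G} (hA' : A ≤ D) (hB' : B ≤ D) (hc : ⁅Kof A D, B⁆ ≤ O D) (hX : X ≤ D)
    (ho : Od X) (hA : A ≤ 𝒩(X)) (hB : B ≤ 𝒩(X)) (h2 : X ⊓ 𝒞(B) ≤ O 𝒞(B)) : ⁅X, A⁆ ≤ O D := by
  have h3 : ⁅X, A⁆ ≤ X := commutator_le_left_of_norm hA
  have h4 : ⁅X, A⁆ ≤ Kof A D := commutator_le_Kof hX
  refine (comm_sup_cent_od (od_le ho h3) (ea_pg h.ea2)
    (norm_commutator hB (norm_of_cent h.cent))).ge.trans (sup_le ?_ ?_)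
  · exact (commutator_mono h4 le_rfl).trans hc
  · refine le_trans (le_inf ?_ (inf_le_left.trans h4)) (O_cent_inf_le (Kof_le_self hA')
      (le_norm_Kof _ _) hB' (ea_pg h.ea2) hc)
    exact O_inf_le' ((inf_le_inf_right _ h3).trans h2) (inf_le_left.trans (h3.trans hX))
      inf_le_right

theorem key {f : G} (hf : f ∈ A ⊔ B) (hf1 : f ≠ 1) {X : Subgroup G} (hX : X ≤ 𝒞[f]) (ho : Od X)
    (hA : A ≤ 𝒩(X)) (hB : B ≤ 𝒩(X)) (h1 : X ⊓ 𝒞(A) ≤ O 𝒞(A)) (h2 : X ⊓ 𝒞(B) ≤ O 𝒞(B)) :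
    X ≤ O 𝒞[f] := by
  obtain ⟨D, d1, d2, d3, d4⟩ := h.comm f hf hf1
  refine le_trans ?_ d3
  replace hX := d2 X hX ho
  have dA : A ≤ D := le_sup_left.trans d1
  have dB : B ≤ D := le_sup_right.trans d1
  have c1 : ⁅Kof A D, B⁆ ≤ O D := (commutator_mono le_rfl (le_Kof _ _)).trans d4
  have c2 : ⁅Kof B D, A⁆ ≤ O D := by
    rw [commutator_comm]; exact (commutator_mono (le_Kof _ _) le_rfl).trans d4
  have hK : Kof A D ≤ D := Kof_le_self dA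
  have h3 := h.key1 dA dB c1 hX ho hA hB h2
  have h4 := h.symm.key1 dB dA c2 hX ho hB hA h1
  have h5 : ⁅X, Kof A D⁆ ≤ O D := by
    refine (commutator_mono (comm_sup_cent_od ho (ea_pg h.ea2) hB).ge le_rfl).trans
      (comm_sup_le (h4.trans (O_le _)) (inf_le_left.trans hX) (le_norm_O _) ?_ ?_)
    · exact (commutator_mono h4 hK).trans (commutator_le_left_of_norm (le_norm_O _))
    · exact commutator_le_O_of_cent hK (le_norm_Kof _ _) dB (ea_pg h.ea2) c1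
        (O_inf_le' h2 (inf_le_left.trans hX) inf_le_right)
  refine (comm_sup_cent_od ho (ea_pg h.ea1) hA).ge.trans (sup_le h3 ?_)
  exact le_O_of_cent hK (le_norm_Kof _ _) (le_Kof _ _) (ea_pg h.ea1)
    (O_inf_le' h1 (inf_le_left.trans hX) inf_le_right)
    ((commutator_mono inf_le_left le_rfl).trans h5)

theorem bal {e f : G} (he : e ∈ A ⊔ B) (hf : f ∈ A ⊔ B) (hf1 : f ≠ 1) :
    (Th A e ⊓ Th B e) ⊓ 𝒞[f] ≤ Th A f ⊓ Th B f := by
  have he' : e ∈ B ⊔ A := sup_comm A B ▸ he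
  have hn : A ⊔ B ≤ 𝒩((Th A e ⊓ Th B e) ⊓ 𝒞[f]) :=
    norm_inf (norm_inf (h.norm_Th he) (sup_comm A B ▸ h.symm.norm_Th he')) (norm_of_le (h.le1 hf))
  have h1 : ((Th A e ⊓ Th B e) ⊓ 𝒞[f]) ⊓ 𝒞(A) ≤ O 𝒞(A) :=
    (inf_le_inf_right _ (inf_le_left.trans inf_le_left)).trans (h.Th_fix he)
  have h2 : ((Th A e ⊓ Th B e) ⊓ 𝒞[f]) ⊓ 𝒞(B) ≤ O 𝒞(B) :=
    (inf_le_inf_right _ (inf_le_left.trans inf_le_right)).trans (h.symm.Th_fix he')
  have h3 := h.key hf hf1 inf_le_right (od_le (od_O _)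
    ((inf_le_left.trans inf_le_left).trans (Th_le (h.a1 he)))) (le_sup_left.trans hn)
    (le_sup_right.trans hn) h1 h2
  exact le_inf (le_Th (ea_pg h.ea1) h3 (le_sup_left.trans hn) h1)
    (le_Th (ea_pg h.ea2) h3 (le_sup_right.trans hn) h2)

theorem th_eq {t u : G} (ht : t ∈ A) (hu : u ∈ B) (hu1 : u ≠ 1) : Th A t ⊓ Th B t = YY t u := by
  have ht' : t ∈ A ⊔ B := mem_sup_left ht
  have hu' : u ∈ A ⊔ B := mem_sup_right hu
  have hO : O 𝒞[t] ≤ Th A t := le_Th (ea_pg h.ea1) le_rfl ((h.a1 ht').trans (le_norm_O _))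
    (O_inf_le_O (cent_le_cent1 ht))
  have hz : zpowers u ≤ B := zpowers_le.2 hu
  have hn : zpowers u ≤ 𝒩(O 𝒞[t]) := hz.trans ((h.b1 ht').trans (le_norm_O _))
  have h1 : ⁅O 𝒞[t], zpowers u⁆ ≤ Th A t ⊓ Th B t :=
    le_inf ((commutator_le_left_of_norm hn).trans hO)
      ((commutator_mono le_rfl hz).trans le_sup_left)
  have h2 : Th A t ⊓ Th B t ≤ O 𝒞[t] := inf_le_left.trans (Th_le (h.a1 ht'))
  refine le_antisymm ?_ (sup_le h1 (le_inf (inf_le_left.trans hO) (le_Th (ea_pg h.ea2) inf_le_left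
    (norm_inf ((h.b1 ht').trans (le_norm_O _)) ((h.b1 hu').trans (le_norm_O _)))
    ((inf_le_inf_right _ inf_le_right).trans (O_inf_le_O (cent_le_cent1 hu))))))
  have h3 := comm_sup_cent_od (od_O 𝒞[t]) ((ea_pg h.ea2).to_le hz) hn
  rw [cent_zpowers] at h3
  refine (le_inf (h2.trans h3.ge) le_rfl).trans ?_
  rw [modular_left (Or.inr (inf_le_left.trans (le_norm_commutator_left _ _))) h1]
  refine sup_le_sup_left (le_inf (inf_le_left.trans inf_le_left) ?_) _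
  exact (le_inf inf_le_right (inf_le_left.trans inf_le_right)).trans
    ((h.bal ht' hu' hu1).trans (inf_le_left.trans (Th_le (h.a1 hu'))))

/-- The completed functor. -/
theorem exists_W : ∃ W : Subgroup G, Od W ∧ A ⊔ B ≤ 𝒩(W) ∧
    ∀ t ∈ A, t ≠ 1 → ∀ u ∈ B, u ≠ 1 → W ⊓ 𝒞[t] = YY t u ∧ W ⊓ 𝒞[u] = YY u t := by
  obtain ⟨W, h1, h2, h3, -⟩ := H19.signalizer_two h.ea (by
      rw [card_sup_of_disjoint (Or.inr (norm_of_cent h.cent)) h.disj, h.c1, h.c2]; omega)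
    (fun e => Th A e ⊓ Th B e)
    (fun e he _ => ⟨inf_le_left.trans ((Th_le (h.a1 he)).trans (O_le _)),
      od_le (od_O _) (inf_le_left.trans (Th_le (h.a1 he))),
      norm_inf (h.norm_Th he) (sup_comm A B ▸ h.symm.norm_Th (sup_comm A B ▸ he))⟩)
    (fun e he _ f hf hf1 => h.bal he hf hf1)
  refine ⟨W, h1, h2, fun t ht ht1 u hu hu1 => ⟨?_, ?_⟩⟩
  · rw [h3 t (mem_sup_left ht) ht1, h.th_eq ht hu hu1]
  · rw [h3 u (mem_sup_right hu) hu1, inf_comm, h.symm.th_eq hu ht ht1]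

theorem WW_eq {t u : G} (ht : t ∈ A) (ht1 : t ≠ 1) (hu : u ∈ B)
    (hu1 : u ≠ 1) : WW A u = WW B t ∧ Od (WW A u) := by
  obtain ⟨W, ho, hn, hW⟩ := h.exists_W
  have h1 : WW A u = W := le_antisymm
    (iSup₂_le fun a ha => (hW a ha.1 ha.2 u hu hu1).1.ge.trans inf_le_left)
    (coprime_le_of_cent1 h.ea1.1 (not_cyclic_of_four h.ea1 h.c1) (le_sup_left.trans hn)
      (od_cop ho (ea_pg h.ea1)) fun a ha ha1 => (hW a ha ha1 u hu hu1).1.le.trans (le_WW ha ha1 u))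
  have h2 : WW B t = W := le_antisymm
    (iSup₂_le fun b hb => (hW t ht ht1 b hb.1 hb.2).2.ge.trans inf_le_left)
    (coprime_le_of_cent1 h.ea2.1 (not_cyclic_of_four h.ea2 h.c2) (le_sup_right.trans hn)
      (od_cop ho (ea_pg h.ea2)) fun b hb hb1 => (hW t ht ht1 b hb hb1).2.le.trans (le_WW hb hb1 t))
  exact ⟨h1.trans h2.symm, h1 ▸ ho⟩

theorem YY_eq {t t' u : G} (ht : t ∈ A) (ht1 : t ≠ 1) (ht' : t' ∈ A) (ht1' : t' ≠ 1) (hu : u ∈ B)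
    (hu1 : u ≠ 1) : YY u t = YY u t' := by
  obtain ⟨W, -, -, hW⟩ := h.exists_W
  exact (hW t ht ht1 u hu hu1).2.symm.trans (hW t' ht' ht1' u hu hu1).2

end CS2

end Cfsg.Agent.PFM
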