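import Cfsg.Agent.PFM.CS2

/-! Frames: a strongly closed 2-subgroup that is a direct product of factors permuted by fusion. -/

set_option autoImplicit false

namespace Cfsg.Agent.PFM

open Cfsg Cfsg.Agent.H49 Cfsg.Agent.GOLD Cfsg.Agent.H82G Cfsg.Agent.H71 Subgroup

universe u

variable {G : Type u} [Group G] [Finite G] {ι : Type u}

/-- `R` is strongly closed in `H` and is the direct product of the `T i`; `U i` is the product of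
the factors other than `T i`; fusion in `R` permutes the factors. -/
structure Fm (H R : Subgroup G) (T U : ι → Subgroup G) : Prop where
  sc : SC H R
  tle : ∀ i, T i ≤ R
  ule : ∀ i, U i ≤ R
  dec : ∀ i, ∀ x ∈ R, ∃ a ∈ T i, ∃ b ∈ U i, x = a * b
  cent : ∀ i, U i ≤ 𝒞(T i)
  disj : ∀ i, ∀ x ∈ T i, x ∈ U i → x = 1
  sub : ∀ i j, i ≠ j → T j ≤ U i
  inf : ∀ x ∈ R, (∀ i, x ∈ U i) → x = 1
  pf : ∀ g ∈ H, ∀ i, ∀ P : Subgroup G, P ≤ R → cj g P ≤ R → ∃ g' ∈ H, ∃ j,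
    Nat.card (T i) = Nat.card (T j) ∧ (∀ x ∈ P, g' * x * g'⁻¹ = g * x * g⁻¹) ∧
      ∀ a ∈ T i, ∀ b ∈ U i, a * b ∈ P → g' * a * g'⁻¹ ∈ T j ∧ g' * b * g'⁻¹ ∈ U j
  nc : ∀ i, ¬ ∀ x ∈ T i, ∀ y ∈ T i, x * x = 1 → y * y = 1 → x * y = y * x

/-- Moving a subgroup `L` into a position where `R ⊓ L` is strongly closed in it. -/
theorem pos {H R L X : Subgroup G} (h : SC H R) (hL : L ≤ H) (hX : X ≤ L) (h2 : IsPGroup 2 X) :
    ∃ k ∈ H, SC (cj k L) (R ⊓ cj k L) ∧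
      ∀ x ∈ X, ∀ g ∈ H, g * x * g⁻¹ ∈ R → k * x * k⁻¹ ∈ R := by
  obtain ⟨Q, hQ, hXQ⟩ := exists_syl_ge h2 hX
  obtain ⟨S, hS, hRS⟩ := exists_syl_ge h.2.1 h.1
  obtain ⟨k, hk, h1⟩ := sylowOf_subJ hS (hQ.le.trans hL) hQ.pi
  refine ⟨k, hk, h.inf (cj_le_of_mem hL hk) (hQ.cj k) ((syl_pg hS).to_le (sup_le hRS h1)),
    fun x hx g hg hgx => ?_⟩
  have e : k * g⁻¹ * (g * x * g⁻¹) * (k * g⁻¹)⁻¹ = k * x * k⁻¹ := by group
  have := sc_mem h hRS hS.le (syl_pg hS) hgx (mul_mem hk (inv_mem hg))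
    (e ▸ h1 (conj_mem_cj.2 (hXQ hx)))
  rwa [e] at this

omit [Finite G] in
theorem cj_le_of_forall {g : G} {X Y : Subgroup G} (h : ∀ x ∈ X, g * x * g⁻¹ ∈ Y) : cj g X ≤ Y :=
  fun x hx => by
    obtain ⟨y, hy, rfl⟩ := mem_cj'.1 hx
    exact h y hy

omit [Finite G] in
theorem conj_fix {g t : G} (h : g ∈ 𝒞[t]) : g * t * g⁻¹ = t := by
  rw [mem_cent1.1 h, mul_inv_cancel_right]

namespace Fm

variable {H R : Subgroup G} {T U : ι → Subgroup G} (h : Fm H R T U)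
include h

omit [Finite G] in
theorem pg : IsPGroup 2 R := h.sc.2.1

omit [Finite G] in
theorem le : R ≤ H := h.sc.1

omit [Finite G] in
theorem comm {i : ι} {a b : G} (ha : a ∈ T i) (hb : b ∈ U i) : a * b = b * a := h.cent i hb a ha

omit [Finite G] in
theorem uniq {i j : ι} {t : G} (h1 : t ∈ T i) (h2 : t ∈ T j) (ht : t ≠ 1) : i = j := by
  by_contra hne
  exact ht (h.disj i t h1 (h.sub i j hne h2))

omit [Finite G] in
theorem ne {i j : ι} {t : G} (h1 : t ∈ T i) (h2 : t ∈ U j) (ht : t ≠ 1) : j ≠ i := by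
  rintro rfl
  exact ht (h.disj j t h1 h2)

omit [Finite G] in
theorem sup (i : ι) : T i ⊔ U i = R :=
  le_antisymm (sup_le (h.tle i) (h.ule i)) fun x hx => by
    obtain ⟨a, ha, b, hb, rfl⟩ := h.dec i x hx
    exact mul_mem_sup ha hb

omit [Finite G] in
theorem normT (i : ι) : R ≤ 𝒩(T i) :=
  (h.sup i).ge.trans (sup_le le_normalizer (norm_of_cent (h.cent i)))

omit [Finite G] in
theorem normU (i : ι) : R ≤ 𝒩(U i) :=
  (h.sup i).ge.trans (sup_le (norm_of_cent (cent_symm (h.cent i))) le_normalizer)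

omit [Finite G] in
theorem card (i : ι) : Nat.card R = Nat.card (T i) * Nat.card (U i) := by
  rw [← h.sup i, card_sup_of_disjoint (Or.inr (norm_of_cent (h.cent i)))
    (eq_bot_iff.2 fun x hx => h.disj i x hx.1 hx.2)]

omit [Finite G] in
theorem pf2 {g : G} (hg : g ∈ H) {i : ι} {X Y : Subgroup G} (hX : X ≤ T i) (hY : Y ≤ U i)
    (h1 : cj g X ≤ R) (h2 : cj g Y ≤ R) :
    ∃ j, Nat.card (T i) = Nat.card (T j) ∧ cj g X ≤ T j ∧ cj g Y ≤ U j := by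
  obtain ⟨g', -, j, e, h3, h4⟩ := h.pf g hg i (X ⊔ Y)
    (sup_le (hX.trans (h.tle i)) (hY.trans (h.ule i))) (cj_sup g X Y ▸ sup_le h1 h2)
  refine ⟨j, e, cj_le_of_forall fun x hx => ?_, cj_le_of_forall fun y hy => ?_⟩
  · rw [← h3 x (mem_sup_left hx)]
    exact (h4 x (hX hx) 1 (one_mem _) (by simpa using mem_sup_left hx)).1
  · rw [← h3 y (mem_sup_right hy)]
    exact (h4 1 (one_mem _) y (hY hy) (by simpa using mem_sup_right hy)).2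

omit [Finite G] in
theorem pfX {g : G} (hg : g ∈ H) {i : ι} {X : Subgroup G} (hX : X ≤ T i) (h1 : cj g X ≤ R) :
    ∃ j, cj g X ≤ T j := by
  obtain ⟨j, -, h2, -⟩ := h.pf2 hg hX (bot_le : ⊥ ≤ U i) h1 (by simp)
  exact ⟨j, h2⟩

omit [Finite G] in
theorem pf3 {g : G} (hg : g ∈ H) {i : ι} {x y z : G} (hx : x ∈ T i) (hy : y ∈ T i) (hz : z ∈ U i)
    (h1 : g * x * g⁻¹ ∈ R) (h2 : g * y * g⁻¹ ∈ R) (h3 : g * z * g⁻¹ ∈ R) :
    ∃ j, g * x * g⁻¹ ∈ T j ∧ g * y * g⁻¹ ∈ T j ∧ g * z * g⁻¹ ∈ U j := by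
  obtain ⟨j, -, h4, h5⟩ := h.pf2 hg (sup_le (zpowers_le.2 hx) (zpowers_le.2 hy)) (zpowers_le.2 hz)
    (by rw [cj_sup, cj_zpowers, cj_zpowers]; exact sup_le (zpowers_le.2 h1) (zpowers_le.2 h2))
    (by rw [cj_zpowers]; exact zpowers_le.2 h3)
  exact ⟨j, h4 (conj_mem_cj.2 (mem_sup_left (mem_zpowers x))),
    h4 (conj_mem_cj.2 (mem_sup_right (mem_zpowers y))), h5 (conj_mem_cj.2 (mem_zpowers z))⟩

omit [Finite G] in
theorem pf1 {g : G} (hg : g ∈ H) {i : ι} {x : G} (hx : x ∈ T i) (h1 : g * x * g⁻¹ ∈ R) :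
    ∃ j, g * x * g⁻¹ ∈ T j := by
  obtain ⟨j, h2, -⟩ := h.pf3 hg hx hx (one_mem _) h1 h1 (by simpa using one_mem R)
  exact ⟨j, h2⟩

omit [Finite G] in
/-- An element of the factor of `t` goes to the factor of the image of `t`. -/
theorem pfT {g : G} (hg : g ∈ H) {i j : ι} {t x : G} (ht : t ∈ T i) (ht1 : t ≠ 1)
    (h1 : g * t * g⁻¹ ∈ T j) (hx : x ∈ T i) (h2 : g * x * g⁻¹ ∈ R) : g * x * g⁻¹ ∈ T j := by
  obtain ⟨k, h3, h4, -⟩ := h.pf3 hg ht hx (one_mem _) (h.tle j h1) h2 (by simpa using one_mem R)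
  rwa [h.uniq h1 h3 (cj_ne_one ht1 g)]

omit [Finite G] in
theorem pfU {g : G} (hg : g ∈ H) {i j : ι} {t x : G} (ht : t ∈ T i) (ht1 : t ≠ 1)
    (h1 : g * t * g⁻¹ ∈ T j) (hx : x ∈ U i) (h2 : g * x * g⁻¹ ∈ R) : g * x * g⁻¹ ∈ U j := by
  obtain ⟨k, h3, -, h4⟩ := h.pf3 hg ht ht hx (h.tle j h1) (h.tle j h1) h2
  rwa [h.uniq h1 h3 (cj_ne_one ht1 g)]

theorem uu {i j : ι} {t y g : G} {P : Subgroup G} (ht : t ∈ T i) (ht1 : t ≠ 1) (hP : P ≤ H)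
    (h2 : IsPGroup 2 P) (hU : U i ≤ P) (htP : t ∈ P) (hy : y ∈ P) (hg : g ∈ H)
    (h3 : g * t * g⁻¹ ∈ T j) (h4 : g * y * g⁻¹ ∈ U j) : y ∈ U i := by
  obtain ⟨k, hk, -, h5⟩ := pos h.sc hP le_rfl h2
  have h6 : ∀ x ∈ P, x ∈ R → k * x * k⁻¹ ∈ R := fun x hx hx' =>
    h5 x hx 1 (one_mem _) (by simpa using hx')
  obtain ⟨l, e, h7, h8⟩ := h.pf2 hk (zpowers_le.2 ht) (le_refl (U i))
    (by rw [cj_zpowers]; exact zpowers_le.2 (h6 t htP (h.tle i ht)))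
    (cj_le_of_forall fun x hx => h6 x (hU hx) (h.ule i hx))
  have e2 : cj k (U i) = U l := eq_of_le_of_card_eq h8 (by
    have h9 := (h.card i).symm.trans (h.card l)
    rw [e] at h9
    rw [card_cj]
    exact Nat.eq_of_mul_eq_mul_left Nat.card_pos h9)
  have e3 : ∀ x : G, k * g⁻¹ * (g * x * g⁻¹) * (k * g⁻¹)⁻¹ = k * x * k⁻¹ := fun x => by group
  have h9 := h.pfU (mul_mem hk (inv_mem hg)) h3 (cj_ne_one ht1 g) (j := l)
    (by rw [e3]; exact h7 (conj_mem_cj.2 (mem_zpowers t))) h4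
    (by rw [e3]; exact h5 y hy g hg (h.ule j h4))
  rw [e3, ← e2] at h9
  exact conj_mem_cj.1 h9

omit [Finite G] in
theorem U_le {i : ι} {t : G} (ht : t ∈ T i) : U i ≤ H ⊓ 𝒞[t] :=
  le_inf ((h.ule i).trans h.le) ((h.cent i).trans (cent_le_cent1 ht))

theorem scU {i : ι} {t : G} (ht : t ∈ T i) (ht1 : t ≠ 1) : SC (H ⊓ 𝒞[t]) (U i) := by
  refine ⟨h.U_le ht, h.pg.to_le (h.ule i), fun P h1 h2 h3 x hx g hg hgx => ?_⟩
  have htH : t ∈ H := h.le (h.tle i ht)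
  refine h.uu (P := P ⊔ zpowers t) ht ht1 (sup_le (h2.trans inf_le_left) (zpowers_le.2 htH))
    (pg_sup h3 (h.pg.to_le (zpowers_le.2 (h.tle i ht))) (Or.inl (norm_of_cent ?_)))
    (h1.trans le_sup_left) (mem_sup_right (mem_zpowers t)) (mem_sup_left hgx) (inv_mem hg.1)
    (j := i) ?_ ?_
  · rw [cent_zpowers]; exact h2.trans inf_le_right
  · rwa [conj_fix (inv_mem hg.2)]
  · rwa [show g⁻¹ * (g * x * g⁻¹) * g⁻¹⁻¹ = x by group]

/-- The frame in the centralizer of an element of one factor. -/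
theorem sub' {k : ι} {t : G} (ht : t ∈ T k) (ht1 : t ≠ 1) :
    Fm (H ⊓ 𝒞[t]) (U k) (fun i : {i // i ≠ k} => T i.1) (fun i => U i.1 ⊓ U k) where
  sc := h.scU ht ht1
  tle i := h.sub k i.1 i.2.symm
  ule _ := inf_le_right
  dec i x hx := by
    obtain ⟨a, ha, b, hb, rfl⟩ := h.dec i.1 x (h.ule k hx)
    exact ⟨a, ha, b, ⟨hb, (mul_mem_cancel_left (h.sub k i.1 i.2.symm ha)).1 hx⟩, rfl⟩
  cent i := inf_le_left.trans (h.cent i.1)
  disj i x h1 h2 := h.disj i.1 x h1 h2.1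
  sub i j hij := le_inf (h.sub i.1 j.1 fun e => hij (Subtype.ext e)) (h.sub k j.1 j.2.symm)
  inf x hx h1 := h.inf x (h.ule k hx) fun i => by
    by_cases e : i = k
    · exact e ▸ hx
    · exact (h1 ⟨i, e⟩).1
  pf g hg i P h1 h2 := by
    have e := conj_fix hg.2
    obtain ⟨g', hg', j, e1, h3, h4⟩ := h.pf g hg.1 i.1 (P ⊔ zpowers t)
      (sup_le (h1.trans (h.ule k)) (zpowers_le.2 (h.tle k ht)))
      (by rw [cj_sup, cj_zpowers, e]; exact sup_le (h2.trans (h.ule k)) (zpowers_le.2 (h.tle k ht)))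
    have e2 : g' * t * g'⁻¹ = t := (h3 t (mem_sup_right (mem_zpowers t))).trans e
    have h5 : j ≠ k := h.ne ht (e2 ▸ (h4 1 (one_mem _) t (h.sub i.1 k i.2 ht)
      (by simpa using mem_sup_right (mem_zpowers t))).2) ht1
    refine ⟨g', ⟨hg', mem_cent1.2 (mul_inv_eq_iff_eq_mul.1 e2)⟩, ⟨j, h5⟩, e1,
      fun x hx => h3 x (mem_sup_left hx), fun a ha b hb hab => ?_⟩
    obtain ⟨h6, h7⟩ := h4 a ha b hb.1 (mem_sup_left hab)
    refine ⟨h6, h7, (mul_mem_cancel_left (h.sub k j h5.symm h6)).1 ?_⟩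
    rw [show g' * a * g'⁻¹ * (g' * b * g'⁻¹) = g' * (a * b) * g'⁻¹ by group,
      h3 _ (mem_sup_left hab)]
    exact h2 (conj_mem_cj.2 hab)
  nc i := h.nc i.1

omit [Finite G] in
theorem ne_bot (i : ι) : T i ≠ ⊥ := fun e => h.nc i fun x hx y hy _ _ => by
  rw [e, mem_bot] at hx
  rw [hx, one_mul, mul_one]

theorem inv (i : ι) : ∃ t ∈ T i, t * t = 1 ∧ t ≠ 1 :=
  exists_inv (h.pg.to_le (h.tle i)) (h.ne_bot i)

theorem fours (i : ι) : ∃ z ∈ T i ⊓ 𝒞(T i), z * z = 1 ∧ z ≠ 1 ∧ ∀ t ∈ T i, t * t = 1 → t ≠ 1 →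
    ∃ A : Subgroup G, A ≤ T i ∧ EA A ∧ Nat.card A = 4 ∧ t ∈ A ∧ z ∈ A := by
  obtain ⟨z, hz, hz2, hz1⟩ := exists_central_inv (h.pg.to_le (h.tle i)) (h.ne_bot i)
  have four : ∀ t ∈ T i, t * t = 1 → t ≠ 1 → t ≠ z →
      ∃ A : Subgroup G, A ≤ T i ∧ EA A ∧ Nat.card A = 4 ∧ t ∈ A ∧ z ∈ A := fun t ht h2 h1 hne =>
    have h3 := H44.ea_of_isKleinFour (H18.isKleinFour_four h2 hz2 (hz.2 t ht) h1 hz1 hne)
    ⟨_, H18.four_le ht hz.1, h3.1, h3.2, H18.left_mem_four, H18.right_mem_four⟩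
  refine ⟨z, hz, hz2, hz1, fun t ht h2 h1 => ?_⟩
  by_cases e : t = z
  swap
  · exact four t ht h2 h1 e
  subst e
  have h3 := h.nc i
  push Not at h3
  obtain ⟨x, hx, y, hy, hx2, -, hxy⟩ := h3
  obtain ⟨A, h3, h4, h5, -, h6⟩ := four x hx hx2 (by rintro rfl; simp at hxy)
    (by rintro rfl; exact hxy (hz.2 y hy).symm)
  exact ⟨A, h3, h4, h5, h6, h6⟩

theorem four {i : ι} {t : G} (ht : t ∈ T i) (ht2 : t * t = 1) (ht1 : t ≠ 1) :
    ∃ A : Subgroup G, A ≤ T i ∧ EA A ∧ Nat.card A = 4 ∧ t ∈ A := by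
  obtain ⟨z, -, -, -, h1⟩ := h.fours i
  obtain ⟨A, h2, h3, h4, h5, -⟩ := h1 t ht ht2 ht1
  exact ⟨A, h2, h3, h4, h5⟩

open Classical in
/-- The projection to the `i`-th factor. -/
noncomputable def pr (i : ι) (x : G) : G := if hx : x ∈ R then (h.dec i x hx).choose else 1

omit [Finite G] in
theorem pr_spec (i : ι) {x : G} (hx : x ∈ R) : h.pr i x ∈ T i ∧ (h.pr i x)⁻¹ * x ∈ U i := by
  have e : h.pr i x = (h.dec i x hx).choose := dif_pos hx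
  obtain ⟨h1, b, hb, e2⟩ := (h.dec i x hx).choose_spec
  rw [← e] at h1 e2
  refine ⟨h1, ?_⟩
  rwa [inv_mul_eq_of_eq_mul e2]

omit [Finite G] in
theorem pr_eq {i : ι} {a b : G} (ha : a ∈ T i) (hb : b ∈ U i) : h.pr i (a * b) = a := by
  obtain ⟨h1, h2⟩ := h.pr_spec i (mul_mem (h.tle i ha) (h.ule i hb))
  rw [← mul_assoc, mul_mem_cancel_right hb] at h2
  exact inv_mul_eq_one.1 (h.disj i _ (mul_mem (inv_mem h1) ha) h2)

omit [Finite G] in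
theorem pr_T {i : ι} {a : G} (ha : a ∈ T i) : h.pr i a = a := by
  simpa using h.pr_eq ha (one_mem _)

omit [Finite G] in
theorem pr_U {i : ι} {b : G} (hb : b ∈ U i) : h.pr i b = 1 := by
  simpa using h.pr_eq (one_mem _) hb

omit [Finite G] in
theorem pr_mul (i : ι) {x y : G} (hx : x ∈ R) (hy : y ∈ R) :
    h.pr i (x * y) = h.pr i x * h.pr i y := by
  obtain ⟨a, ha, b, hb, rfl⟩ := h.dec i x hx
  obtain ⟨c, hc, d, hd, rfl⟩ := h.dec i y hy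
  rw [h.pr_eq ha hb, h.pr_eq hc hd, show a * b * (c * d) = a * (b * c) * d by group,
    ← h.comm hc hb, show a * (c * b) * d = a * c * (b * d) by group,
    h.pr_eq (mul_mem ha hc) (mul_mem hb hd)]

omit [Finite G] in
theorem pr_inv (i : ι) {x : G} (hx : x ∈ R) : h.pr i x⁻¹ = (h.pr i x)⁻¹ := by
  rw [eq_inv_iff_mul_eq_one, ← h.pr_mul i (inv_mem hx) hx, inv_mul_cancel]
  exact h.pr_U (one_mem _)

omit [Finite G] in
theorem eq_one {x : G} (hx : x ∈ R) (h1 : ∀ i, h.pr i x = 1) : x = 1 :=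
  h.inf x hx fun i => by simpa [h1 i] using (h.pr_spec i hx).2

omit [Finite G] in
theorem pr_sq (i : ι) {x : G} (hx : x ∈ R) (h2 : x * x = 1) : h.pr i x * h.pr i x = 1 := by
  rw [← h.pr_mul i hx hx, h2]; exact h.pr_U (one_mem _)

omit [Finite G] in
theorem pr_conj {i j : ι} {g x : G} (hx : x ∈ R) (h1 : g * h.pr i x * g⁻¹ ∈ T j)
    (h2 : g * ((h.pr i x)⁻¹ * x) * g⁻¹ ∈ U j) : h.pr j (g * x * g⁻¹) = g * h.pr i x * g⁻¹ := by
  rw [← h.pr_eq h1 h2]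
  congr 1
  group

omit [Finite G] in
theorem pf_pr {g : G} (hg : g ∈ H) (i : ι) {P : Subgroup G} (h1 : P ≤ R) (h2 : cj g P ≤ R) :
    ∃ g' : G, ∃ j, ∀ x ∈ P, h.pr j (g * x * g⁻¹) = g' * h.pr i x * g'⁻¹ := by
  obtain ⟨g', -, j, -, h3, h4⟩ := h.pf g hg i P h1 h2
  refine ⟨g', j, fun x hx => ?_⟩
  obtain ⟨h5, h6⟩ := h.pr_spec i (h1 hx)
  obtain ⟨h7, h8⟩ := h4 _ h5 _ h6 (by simpa using hx)
  rw [← h3 x hx, h.pr_conj (h1 hx) h7 h8]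

omit [Finite G] in
theorem cent_pr (i : ι) {e : G} (he : e ∈ R) : R ⊓ 𝒞[e] ≤ 𝒞[h.pr i e] := fun r hr => by
  obtain ⟨h1, h2⟩ := h.pr_spec i he
  have h3 := h.pr_conj he (conj_mem_of_norm (h.normT i) hr.1 h1)
    (conj_mem_of_norm (h.normU i) hr.1 h2)
  rw [conj_fix hr.2] at h3
  exact mem_cent1.2 (mul_inv_eq_iff_eq_mul.1 h3.symm)

omit [Finite G] in
theorem cent_of_pr {i : ι} {e b : G} (he : e ∈ R) (hb : b ∈ T i) (hc : b ∈ 𝒞[h.pr i e]) :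
    b ∈ 𝒞[e] := by
  have h1 := mem_cent1_comm.1 hc
  have h2 : (h.pr i e)⁻¹ * e ∈ 𝒞[b] := mem_cent1.2 (h.comm hb (h.pr_spec i he).2).symm
  have := mul_mem h1 h2
  rw [mul_inv_cancel_left] at this
  exact mem_cent1_comm.1 this

end Fm

end Cfsg.Agent.PFM
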